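import Mathlib
import Cfsg.Agent.Lib.Helper56.J2.Min

/-! Data for the group generated by the reflections (helper56; generated). -/

set_option autoImplicit false

namespace Cfsg.Agent.Lib.Helper56.J2

def Abig : ℕ := 0x8888888887876989a78787878989a789888888868886888869898987888a88888888888688888886989898787979797978787878888888a68989898797979779878787878888886888888886989898787979797978787878888888a68989898797979779878787878888886888888886989878989779977978789898888888a689878787799779798789898788888868799797998787878989898789888888887878987a96989878797977978789898989878989977979998888888897979997898989899898787a89878789878789897a78787887898789887978878899988789967988889778698879788787987988889798898897968789987788889798878879986988797889887778878897988788797a87877a978889789788877899886aa8888a88888888888888888888888888888a8a868a888888888888868a888888888a8aa668888a8888888888888888888888888888868a8a868888888888888a8688888888868aa79879887889887988799887877879889689889788779889978887988877788996878879697897888998978879888998988788797a8788978899988988977887889978897a898879898787a788888a888886888888888888898789a76989898987698787868888888888888a878989a78888888889a7898788888688878987a78a888888888a8888a78787898888888a7989788a978998888797887887978898879788989787788a7987788897879886897988989787988a8979889897899888798778888979889879897886897988787989988a87978898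

def Pbig : ℕ := 0x12763f47d8ed1ca26c13804fd9f9bee7d2fa1eebdb7b4f49e2bc077aef1dd3b9770edddabb4762ec1d6ba874ce95d038b6fade1b035869cd059ab20638c618bb16620c017fafe5e0b8d6fad95b0b4d67ac1580af55e2bb572ad959aae556aa5542a4546a894ea9c536a694ba96522a4146a8c50ca093ba764e89ad352674c29812fa5d4b49612aa4f49892d2524848a9111fa3e4608ad1520f41a821021f23de78cec1d73ac754e99ce398714e21c33846f0db1b53606bcd51a934a68cd119f33c664cc19732a64cc919031e634c618a30e618c09802fc5f4be17b2f45d0b41662c2580a794e290510a193f27a4ec9d1372564a49411f23a4688a91221a430859012003f87e8f81ea3c0778ec1d23a0708e01b83686b0d41a6340668cc196328638c5188308608c017e2f85c8b716c2c4580ae15a2a8540a714c2804f09a13225c4b094116214420811001fc3c8780ee1c43786a0ce194320620c21802e85c0b61682c8570ac1502804f09c1342584a09011c228420821001e03a0720d41a0330640c41782e0580ac1402604a0901182203e0740e01a0320600b8160260440700d01802c0500900e0180200300400400000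

end Cfsg.Agent.Lib.Helper56.J2
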