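import Mathlib
import Cfsg.Agent.Lib.Helper56.J2.Pres
import Cfsg.Agent.Lib.Helper56.J2.Quat

/-!
Permutations of `100` points coded by natural numbers (7 bits per point), for computations in the
permutation model of `J₂` of helper27 (helper56).
-/

set_option autoImplicit false

namespace Cfsg.Agent.Lib.Helper56.J2

open Cfsg.Agent.Lib.Helper28 Cfsg.Agent.Lib.Helper27

def look (T c : ℕ) : ℕ := (T >>> (7 * c)) &&& 127

def pack (f : ℕ → ℕ) (n : ℕ) : ℕ :=
  Nat.rec (motive := fun _ => ℕ) 0 (fun k ih => ih + (f k) <<< (7 * k)) n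

theorem pack_succ (f : ℕ → ℕ) (n : ℕ) : pack f (n + 1) = pack f n + f n * 2 ^ (7 * n) := by
  show pack f n + (f n) <<< (7 * n) = _
  rw [Nat.shiftLeft_eq]

theorem look_eq (T c : ℕ) : look T c = T / 2 ^ (7 * c) % 128 := by
  unfold look
  rw [Nat.shiftRight_eq_div_pow]
  exact Nat.and_two_pow_sub_one_eq_mod _ 7

theorem look_lt (T c : ℕ) : look T c < 128 := by
  rw [look_eq]; exact Nat.mod_lt _ (by norm_num)

theorem pack_lt (f : ℕ → ℕ) (hf : ∀ c, f c < 128) (n : ℕ) : pack f n < 2 ^ (7 * n) := by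
  induction n with
  | zero => show 0 < _; norm_num
  | succ n ih =>
    rw [pack_succ]
    have h1 : 2 ^ (7 * (n + 1)) = 128 * 2 ^ (7 * n) := by
      rw [show 7 * (n + 1) = 7 + 7 * n by ring, pow_add]; norm_num
    rw [h1]
    have := hf n
    have hp : 0 < 2 ^ (7 * n) := by positivity
    nlinarith

theorem look_pack (f : ℕ → ℕ) (hf : ∀ c, f c < 128) {n c : ℕ} (hc : c < n) :
    look (pack f n) c = f c := by
  induction n with
  | zero => omega
  | succ n ih =>
    rw [pack_succ, look_eq]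
    rcases Nat.lt_succ_iff_lt_or_eq.1 hc with h | h
    · have e : 2 ^ (7 * n) = 2 ^ (7 * c) * (128 * 2 ^ (7 * (n - c - 1))) := by
        rw [show (128 : ℕ) = 2 ^ 7 by norm_num, ← pow_add, ← pow_add]
        congr 1
        omega
      rw [e, show f n * (2 ^ (7 * c) * (128 * 2 ^ (7 * (n - c - 1)))) =
        2 ^ (7 * c) * (128 * (f n * 2 ^ (7 * (n - c - 1)))) by ring,
        Nat.add_mul_div_left _ _ (by positivity), Nat.add_mul_mod_self_left, ← look_eq]
      exact ih h
    · subst h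
      rw [Nat.add_mul_div_right _ _ (by positivity), Nat.div_eq_of_lt (pack_lt f hf c), zero_add,
        Nat.mod_eq_of_lt (hf c)]

/-- composition of tables -/
def compT (A B : ℕ) : ℕ :=
  forceNat A fun a => forceNat B fun b => pack (fun c => look a (look b c)) 100

theorem look_compT (A B : ℕ) {c : ℕ} (hc : c < 100) : look (compT A B) c = look A (look B c) := by
  unfold compT
  rw [forceNat_eq, forceNat_eq]
  exact look_pack _ (fun _ => look_lt _ _) hc

/-- `g` is the permutation with table `T` -/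
def RepE (g : Equiv.Perm ℕ) (T : ℕ) : Prop := g ∈ PC.Bd 100 ∧ ∀ c < 100, g c = look T c

theorem RepE.mul {g h : Equiv.Perm ℕ} {A B : ℕ} (hg : RepE g A) (hh : RepE h B) :
    RepE (g * h) (compT A B) := by
  refine ⟨(PC.Bd 100).mul_mem hg.1 hh.1, fun c hc => ?_⟩
  rw [look_compT A B hc, Equiv.Perm.mul_apply, ← hh.2 c hc, hg.2 _ (PC.Bd_lt hh.1 hc)]

theorem RepE.ext {g h : Equiv.Perm ℕ} {A : ℕ} (hg : RepE g A) (hh : RepE h A) : g = h := by
  ext c
  by_cases hc : c < 100
  · rw [hg.2 c hc, hh.2 c hc]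
  · rw [hg.1 c hc, hh.1 c hc]

/-- the images of the base points -/
def fp (T : ℕ) : ℕ :=
  forceNat T fun t => look t 0 + 128 * (look t 49 + 128 * (look t 86 + 128 * (look t 9 + 128 * look t 97)))

theorem RepE.fp_eq {g : Equiv.Perm ℕ} {A B : ℕ} (hg : RepE g A) (hh : RepE g B) : fp A = fp B := by
  unfold fp
  rw [forceNat_eq, forceNat_eq, ← hg.2 0 (by norm_num), ← hg.2 49 (by norm_num),
    ← hg.2 86 (by norm_num), ← hg.2 9 (by norm_num), ← hg.2 97 (by norm_num),
    hh.2 0 (by norm_num), hh.2 49 (by norm_num), hh.2 86 (by norm_num), hh.2 9 (by norm_num),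
    hh.2 97 (by norm_num)]

/-- the identity table -/
def IDc : ℕ := pack (fun c => c) 100

theorem RepE.one : RepE 1 IDc := by
  refine ⟨(PC.Bd 100).one_mem, fun c hc => ?_⟩
  have h : look (pack (fun c => c % 128) 100) c = c % 128 :=
    look_pack _ (fun _ => Nat.mod_lt _ (by norm_num)) hc
  have e : IDc = pack (fun c => c % 128) 100 := by decide +kernel
  rw [e, h, Nat.mod_eq_of_lt (by omega)]
  rfl

/-- table of a word, given tables of the letters -/
def codeW (lc : ℕ → ℕ) (w : List ℕ) : ℕ :=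
  List.rec (motive := fun _ => ℕ) IDc (fun x _ ih => compT (lc x) ih) w

theorem codeW_cons (lc : ℕ → ℕ) (x : ℕ) (w : List ℕ) :
    codeW lc (x :: w) = compT (lc x) (codeW lc w) := rfl

theorem RepE.word {u : ℕ → Equiv.Perm ℕ} {lc : ℕ → ℕ} (w : List ℕ)
    (h : ∀ y ∈ w, RepE (u y) (lc y)) : RepE (evalW u w) (codeW lc w) := by
  induction w with
  | nil => exact RepE.one
  | cons x w ih =>
    rw [evalW_cons, codeW_cons]
    exact (h x List.mem_cons_self).mul (ih fun y hy => h y (List.mem_cons_of_mem _ hy))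

/-- the permutation model -/
noncomputable abbrev PP : Subgroup (Equiv.Perm ℕ) := Sg (PC.val J2P.V) L0

instance : Finite PP := J2P.lvl0.1

theorem card_PP : Nat.card PP = 604800 := J2P.card0

theorem PP_le_Bd : PP ≤ PC.Bd 100 := PC.Sg_le_Bd J2P.V L0

/-- the letters -/
noncomputable def lv (y : ℕ) : PP :=
  ⟨evalW (PC.val J2P.V) [y % 16], PC.evalW_mem_Sg _ _ _ (by
    intro z hz
    rw [List.mem_singleton] at hz
    have : z < 16 := by rw [hz]; exact Nat.mod_lt _ (by norm_num)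
    show z ∈ L0
    interval_cases z <;> simp)⟩

theorem lv_coe {y : ℕ} (hy : y < 16) : ((lv y : PP) : Equiv.Perm ℕ) = PC.val J2P.V y := by
  show evalW (PC.val J2P.V) [y % 16] = _
  rw [Nat.mod_eq_of_lt hy, evalW_cons, evalW_nil, mul_one]

def RepP (g : PP) (T : ℕ) : Prop := ∀ c < 100, (g : Equiv.Perm ℕ) c = look T c

theorem RepP.toE {g : PP} {T : ℕ} (h : RepP g T) : RepE g T := ⟨PP_le_Bd g.2, h⟩

theorem RepP.mul {g h : PP} {A B : ℕ} (hg : RepP g A) (hh : RepP h B) :
    RepP (g * h) (compT A B) := (hg.toE.mul hh.toE).2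

theorem RepP.ext {g h : PP} {A : ℕ} (hg : RepP g A) (hh : RepP h A) : g = h :=
  Subtype.ext (hg.toE.ext hh.toE)

theorem RepP.fp_eq {g : PP} {A B : ℕ} (hg : RepP g A) (hh : RepP g B) : fp A = fp B :=
  hg.toE.fp_eq hh.toE

theorem RepP.one : RepP 1 IDc := RepE.one.2

theorem RepP.word {u : ℕ → PP} {lc : ℕ → ℕ} (w : List ℕ)
    (h : ∀ y ∈ w, RepP (u y) (lc y)) : RepP (evalW u w) (codeW lc w) := by
  induction w with
  | nil => exact RepP.one
  | cons x w ih =>
    rw [evalW_cons, codeW_cons]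
    exact (h x List.mem_cons_self).mul (ih fun y hy => h y (List.mem_cons_of_mem _ hy))

/-- elements of the model fixing the base are trivial -/
theorem eq_one_of_base {g : Equiv.Perm ℕ} (hg : g ∈ PP) (h0 : g 0 = 0) (h1 : g 49 = 49)
    (h2 : g 86 = 86) (h3 : g 9 = 9) (h4 : g 97 = 97) : g = 1 := by
  have a0 := J2P.lvl0.2.2 g hg h0
  have a1 := J2P.lvl1.2.2 g a0 h1
  have a2 := J2P.lvl2.2.2 g a1 h2
  have a3 := J2P.lvl3.2.2 g a2 h3
  have a4 := J2P.lvl4.2.2 g a3 h4
  rw [Sg_nil, Subgroup.mem_bot] at a4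
  exact a4

end Cfsg.Agent.Lib.Helper56.J2
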