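import Mathlib
import Cfsg.Agent.Lib.Helper56.J2.PCode
import Cfsg.Agent.Lib.Helper56.J2.PData
import Cfsg.Agent.Lib.Helper56.J3InvData

/-! Kernel checks for the involution centralizer in the permutation model of `J₂` (helper56). -/

set_option autoImplicit false
set_option maxRecDepth 100000

namespace Cfsg.Agent.Lib.Helper56.J2

open Cfsg.Agent.Lib.Helper28 Cfsg.Agent.Lib.Helper27

theorem cL : ∀ y < 16, ∀ c < 100, J2P.L.pt (J2P.L.inv y) c = look (Lc y) c + 1 := by decide +kernel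

theorem cQW : ∀ i < 32, codeW Lc (QW.getD i []) = Qc i := by decide +kernel
theorem cHW : ∀ i < 60, codeW Lc (HW.getD i []) = Hc i := by decide +kernel
theorem cQQ : ∀ i < 32, ∀ j < 32, compT (Qc i) (Qc j) = Qc (J3.mQ i j) := by decide +kernel
theorem cHH : ∀ i < 60, ∀ j < 60, compT (Hc i) (Hc j) = Hc (J3.mH i j) := by decide +kernel
theorem cHQ : ∀ a < 60, ∀ i < 32, compT (Hc a) (Qc i) = compT (Qc (J3.actT a i)) (Hc a) := by
  decide +kernel
theorem cQinj : ∀ i < 32, ∀ j < 32, fp (Qc i) = fp (Qc j) → i = j := by decide +kernel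
theorem cHinj : ∀ i < 60, ∀ j < 60, fp (Hc i) = fp (Hc j) → i = j := by decide +kernel
theorem cQH : ∀ i < 32, ∀ j < 60, fp (Qc i) = fp (Hc j) → i = 0 ∧ j = 0 := by decide +kernel
theorem cQ0 : Qc 0 = IDc ∧ Hc 0 = IDc := by decide +kernel

theorem cCW : ∀ j < 315, codeW Lc (CW.getD j []) = Cc j := by decide +kernel
theorem cGW : ∀ j < 315, compT (codeW Lc (GW.getD j [])) (Qc 1) =
    compT (Cc j) (codeW Lc (GW.getD j [])) := by decide +kernel
theorem cCm : ∀ j < 314, fp (Cc j) < fp (Cc (j + 1)) := by decide +kernel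
theorem cJQ : ∀ i < 32, J3.mQ i i = 0 → i ≠ 0 → JQ.getD i 0 < 315 ∧ Cc (JQ.getD i 0) = Qc i := by
  decide +kernel
theorem cV : ∀ a < 4, IV.getD a 0 < 32 ∧ compT (codeW Lc (VW.getD a [])) (Qc kV) =
    compT (compT (Qc (IV.getD a 0)) (Hc a)) (codeW Lc (VW.getD a [])) := by decide +kernel

end Cfsg.Agent.Lib.Helper56.J2
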