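import Mathlib
import Cfsg.Agent.Lib.Helper56.J2.PCode
import Cfsg.Agent.Lib.Helper56.J2.OData

/-! Kernel checks for the automorphisms of `J₂` in the permutation model (helper56). -/

set_option autoImplicit false
set_option maxRecDepth 100000

namespace Cfsg.Agent.Lib.Helper56.J2

def p7 (w : ℕ) : ℕ :=
  forceNat (compT w w) fun w2 => forceNat (compT w2 w2) fun w4 => compT (compT w4 w2) w

def p10 (w : ℕ) : ℕ :=
  forceNat (compT w w) fun w2 => forceNat (compT w2 w2) fun w4 => forceNat (compT w4 w4) fun w8 =>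
    compT w8 w2

def w3 (c : ℕ) : ℕ := compT (XPc 1) (compT c (compT (XPc 3) (compT c (compT (XPc 4) c))))

def inV (c : ℕ) : Bool := (List.range 14).any fun i => Nat.beq c (Vtab i)

def chkO (j : ℕ) : Bool :=
  forceNat (Cc j) fun c => !(Nat.beq (fp (p7 (w3 c))) (fp IDc)) ||
    (!(Nat.beq (fp (p10 (compT (XPc 1) c))) (fp IDc)) || inV c)

def uc (k : ℕ) : ℕ := bif Nat.beq k 0 then XPc 1 else bif Nat.beq k 1 then XPc 6 else Qc 1

def col (c : ℕ) : ℕ := (colM >>> c) &&& 1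

theorem cT : ∀ c < 100, look Tc c < 100 ∧ look Tc (look Tc c) = c := by decide +kernel
theorem cX : codeW Lc XW = XPc 1 := by decide +kernel
theorem cXP : XPc 0 = IDc ∧ (∀ k < 6, compT (XPc 1) (XPc k) = XPc (k + 1)) ∧
    compT (XPc 1) (XPc 6) = IDc := by decide +kernel
theorem cTW : ∀ y < 16, compT Tc (Lc y) = compT (codeW Lc (TW.getD y [])) Tc := by decide +kernel
theorem cLW : ∀ y < 16, codeW uc (LW.getD y []) = Lc y := by decide +kernel
theorem cNW : ∀ m < 7, m ≠ 0 → compT (codeW Lc (NW.getD m [])) (XPc m) =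
    compT (XPc 1) (codeW Lc (NW.getD m [])) := by decide +kernel
theorem cV1 : ∀ k < 7, compT (compT (XPc k) (Qc 1)) (XPc ((7 - k) % 7)) = Vtab k := by
  decide +kernel
theorem cV2 : ∀ k < 7, compT (compT (XPc k) (compT (compT Tc (Qc 1)) Tc)) (XPc ((7 - k) % 7)) =
    Vtab (7 + k) := by decide +kernel
theorem cTX : compT Tc (XPc 1) = compT (XPc 1) Tc := by decide +kernel
theorem cR : p7 (w3 (Qc 1)) = IDc ∧ p10 (compT (XPc 1) (Qc 1)) = IDc := by decide +kernel
theorem cO : ∀ j < 315, chkO j = true := by decide +kernel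
theorem cGF : look (compT Tc (codeW Lc GF)) 0 = 0 ∧ look (compT Tc (codeW Lc GF)) 49 = 49 ∧
    look (compT Tc (codeW Lc GF)) 86 = 86 ∧ look (compT Tc (codeW Lc GF)) 9 = 67 := by
  decide +kernel
theorem cCol : (∀ y < 16, 12 ≤ y → ∀ c < 100, col (look (Lc y) c) = col c) ∧ col 9 = 1 ∧
    col 67 = 0 := by decide +kernel
theorem cFix : (∀ y < 16, 4 ≤ y → look (Lc y) 0 = 0) ∧
    ∀ p < 100, p ≠ 0 → ∃ y < 16, 4 ≤ y ∧ look (Lc y) p ≠ p := by decide +kernel
theorem cX1 : fp (XPc 1) ≠ fp IDc := by decide +kernel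

end Cfsg.Agent.Lib.Helper56.J2
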