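import Mathlib

/-! Data for the subgroup `U₃(3)` of index 100 of `J₂` (helper56). -/

set_option autoImplicit false

namespace Cfsg.Agent.Lib.Helper56.J2U

def PT : ℕ := 0x7fff83fff069255afffde7fff353985d16662476309b89fffff5ffffa16a9967ffe77fffa4b5d9f54415d724dead6ff420d1412efcf51fce1abb242a5a73bfdc33fecdefffffe3fffdafffe990af59fffa4fffe503c1690509f2e0a8bf47ffffeb7fff7748e9ffffd3fffe626bc5d24e530a6a725bbfebaaaa488566eaffa38a6ec4c898717fb373fde33fffffc73929cbb4c2c935feb3754aea92ae43fca07ff024fffffda89862e237611ccfea2fd0a33e5a083fddd2fe756fffffcfa643fd7b5fffffac3137fbc4ffffff5dfffdcfffef59338ffff31fffa7793577ffeeffff5a7691f341671c934eea5fffffcafffd260076bfff4dfffb55e8564196a28209f46fff9962245466f161fe40956555eaab6ffccdeff72cffffff1ffff4bfff3aed69ffffd0fffebd335584abb720a95d6abfffff9bfffbc309d77ffe0ffffc12925ab08f0cc8b8a21bfe164a53472ecea7fe5a0bf06851513ffdeb3fccdcfffffe39f465df51420a0fe6f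158c3122cc47fd69dff49dfffffcfd55649bd65442bffa7742a59c70d49fe9307f072bfffff693bcff34c7ffffd7355ffd0a6fffffacfffef7fff70cd9c6dea90acaebaa25fefcf82a28a0a12ffcd4ffcc3cfffffae4b4cd4ebb24e05ff84dcc89891c5b1fd0b5fe997fffffd60349fe560fffffdaa4b7fbb3bfffff3ffff99fffecdcbd8f144466f0ccb117fdd9d269a53414e7f5e9bfb543fffff59454209f7e0cba1fd5d6af55b9024abfbc31fd3cdfffffae3aeffada5fffff3f8257f480ffffff6bfffb3fff99bd73184b7fe391fffff9e8e13f91b7fffff3dfff84fffc8c7b67ad91fe123fffffcf118ffed84fffff9efffc8fffe12dc73dfffdbfffe384227bfff8ffffdb2210f366cd9b366cd9b7f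

def WT : List (List ℕ) := [[], [], [], [], [], [], [], [], [], [], [], [], [], [10, 4, 4], [5, 7, 4], [], [8, 4, 6, 4], [10, 7], [], [], [], [], [10, 7], [8, 4, 6, 4], [], [5, 7, 4], [10, 4, 4], [], [], [], [], [8, 4, 6, 4], [10, 4, 4], [], [10, 7], [5, 7, 4], [], [5, 6, 4], [5, 7, 5, 9], [6, 11], [], [], [5, 5, 11], [], [], [], [5, 5, 11], [6, 11], [5, 6, 4], [], [], [5, 7, 5, 9], [], [], [], [], [], [], [5, 7, 4], [10, 7], [], [10, 4, 4], [8, 4, 6, 4], [], [6, 11], [5, 5, 11], [5, 7, 5, 9], [], [], [5, 6, 4], [], [], [], [5, 7, 5, 9], [5, 6, 4], [5, 5, 11], [], [], [6, 11], [], [], [], [], [], [], [8, 10, 7, 9], [4, 10, 8, 13, 4], [], [9, 12, 5, 9], [7, 10], [], [8, 6, 15, 11], [5, 6, 11, 4], [13, 5, 12, 5], [], [], [12, 5, 9, 9], [], [], [], [15, 11, 8, 5], [5, 11, 5], [12, 4, 13, 4], [], [], [15, 11, 8, 6], [], [], [], [12, 11, 4, 8], [15, 7, 15], [6, 10, 6], [], [], [11, 5, 5], [],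 [], [6, 4, 8, 4], [], [], [], [], [], [], [], [], [7, 5, 10, 4], [], [], [], [], [], [], [], [], [], [7], [9, 15, 4], [11, 4, 8, 12], [], [], [8, 7, 9], [], [], [15, 8, 5], [], [], [], [], [], [], [], [], [9, 7, 8], [], [], [], [], [], [], [], [], [], [], [], [], [7, 10], [9, 12, 5, 9], [], [4, 10, 8, 13, 4], [8, 10, 7, 9], [], [5, 11, 5], [15, 11, 8, 5], [15, 11, 8, 6], [], [], [12, 4, 13, 4], [], [], [], [5, 6, 11, 4], [8, 6, 15, 11], [12, 5, 9, 9], [], [], [13, 5, 12, 5], [], [], [], [9, 15, 4], [7], [8, 7, 9], [], [], [11, 4, 8, 12], [], [], [9, 7, 8], [], [], [], [], [], [], [], [], [15, 8, 5], [], [], [], [], [], [], [], [], [], [15, 7, 15], [12, 11, 4, 8], [11, 5, 5], [], [], [6, 10, 6], [], [], [7, 5, 10, 4], [], [], [], [], [], [], [], [], [6, 4, 8, 4], [], [], [], [], [], [], [], [], [], [], [], [], [9, 12, 5, 9], [8, 10, 7, 9], [], [7, 10], [4, 10, 8, 13, 4], [], [8, 7, 9], [11,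 4, 8, 12], [7], [], [], [9, 15, 4], [], [], [], [11, 5, 5], [6, 10, 6], [12, 11, 4, 8], [], [], [15, 7, 15], [], [], [], [12, 5, 9, 9], [13, 5, 12, 5], [8, 6, 15, 11], [], [], [5, 6, 11, 4], [], [], [15, 8, 5], [], [], [], [], [], [], [], [], [6, 4, 8, 4], [], [], [], [], [], [], [], [], [], [15, 11, 8, 6], [12, 4, 13, 4], [15, 11, 8, 5], [], [], [5, 11, 5], [], [], [9, 7, 8], [], [], [], [], [], [], [], [], [7, 5, 10, 4], [], [], [], [], [], [], [], [], [], [11, 5, 13, 4, 4], [8, 4, 12, 8], [11, 6], [], [], [8, 6, 11, 9], [], [], [5, 11, 4, 6], [], [], [], [], [], [], [], [], [4, 9, 15], [], [], [], [], [], [], [], [], [9, 6, 8], [], [], [], [], [], [], [], [], [], [], [], [], [10, 15, 7, 9], [15, 7, 11, 8], [], [8, 8, 4, 12], [5, 10, 7, 4], [], [], [], [], [9, 5, 10, 12], [7, 11, 7], [], [4, 4, 10], [15, 6, 15], [4, 10, 7, 5], [], [], [], [], [], [], [], [], [], [], [], [], [6], [12, 9,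 5, 10], [], [8, 6, 9], [5, 15, 8], [], [], [], [], [4, 12, 8, 8], [5, 13, 5, 12], [], [7, 12, 8, 8], [4, 10, 4], [], [8, 6, 11, 9], [11, 6], [11, 5, 13, 4, 4], [], [], [8, 4, 12, 8], [], [], [4, 10, 7, 5], [], [], [], [], [], [], [], [], [9, 6, 8], [], [], [], [], [], [], [], [], [5, 11, 4, 6], [], [], [], [], [], [], [], [], [], [], [], [], [8, 6, 9], [6], [], [5, 15, 8], [12, 9, 5, 10], [], [], [], [], [8, 8, 4, 12], [10, 15, 7, 9], [], [5, 10, 7, 4], [15, 7, 11, 8], [4, 9, 15], [], [], [], [], [], [], [], [], [], [], [], [], [7, 12, 8, 8], [4, 12, 8, 8], [], [4, 10, 4], [5, 13, 5, 12], [], [], [], [], [4, 4, 10], [9, 5, 10, 12], [], [15, 6, 15], [7, 11, 7], [], [], [], [], [4, 10, 8, 13, 4], [7, 10], [], [8, 10, 7, 9], [9, 12, 5, 9], [], [6, 10, 6], [11, 5, 5], [15, 7, 15], [], [], [12, 11, 4, 8], [], [], [], [11, 4, 8, 12], [8, 7, 9], [9, 15, 4], [], [], [7], [], [], [], [12, 4, 13,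 4], [15, 11, 8, 6], [5, 11, 5], [], [], [15, 11, 8, 5], [], [], [7, 5, 10, 4], [], [], [], [], [], [], [], [], [9, 7, 8], [], [], [], [], [], [], [], [], [], [13, 5, 12, 5], [12, 5, 9, 9], [5, 6, 11, 4], [], [], [8, 6, 15, 11], [], [], [6, 4, 8, 4], [], [], [], [], [], [], [], [], [15, 8, 5], [], [], [], [], [], [], [], [], [], [11, 6], [8, 6, 11, 9], [8, 4, 12, 8], [], [], [11, 5, 13, 4, 4], [], [], [9, 6, 8], [], [], [], [], [], [], [], [], [4, 10, 7, 5], [], [], [], [], [], [], [], [], [4, 9, 15], [], [], [], [], [], [], [], [], [], [], [], [], [7, 11, 7], [15, 6, 15], [], [9, 5, 10, 12], [4, 4, 10], [], [], [], [], [5, 13, 5, 12], [4, 10, 4], [], [4, 12, 8, 8], [7, 12, 8, 8], [5, 11, 4, 6], [], [], [], [], [], [], [], [], [], [], [], [], [15, 7, 11, 8], [5, 10, 7, 4], [], [10, 15, 7, 9], [8, 8, 4, 12], [], [], [], [], [12, 9, 5, 10], [5, 15, 8], [], [6], [8, 6, 9], [], [8, 4, 12, 8],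 [11, 5, 13, 4, 4], [8, 6, 11, 9], [], [], [11, 6], [], [], [4, 9, 15], [], [], [], [], [], [], [], [], [5, 11, 4, 6], [], [], [], [], [], [], [], [], [4, 10, 7, 5], [], [], [], [], [], [], [], [], [], [], [], [], [4, 10, 4], [7, 12, 8, 8], [], [5, 13, 5, 12], [4, 12, 8, 8], [], [], [], [], [5, 15, 8], [8, 6, 9], [], [12, 9, 5, 10], [6], [9, 6, 8], [], [], [], [], [], [], [], [], [], [], [], [], [15, 6, 15], [4, 4, 10], [], [7, 11, 7], [9, 5, 10, 12], [], [], [], [], [5, 10, 7, 4], [8, 8, 4, 12], [], [15, 7, 11, 8], [10, 15, 7, 9]]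

def OP1 : List (ℕ × List ℕ) := [(1, [7, 4]), (2, [7, 12, 4]), (6, [6]), (7, [5, 9, 4]), (8, [4, 7, 4]), (9, [6, 4]), (10, [4]), (11, [7, 5]), (12, [8, 7, 4]), (13, [10, 7, 4]), (14, [4, 4, 4]), (15, [9, 6, 4]), (19, [10, 5]), (20, [12, 4]), (21, [9, 4, 7]), (22, [4, 7]), (23, [6, 4, 4]), (34, [8, 7]), (41, [6, 9, 4]), (48, [5, 6]), (49, []), (50, [7]), (51, [15, 4]), (52, [9, 4]), (56, [9, 5]), (57, [8, 4, 4, 4]), (58, [7, 4, 4]), (61, [11, 5]), (62, [12, 6, 4]), (63, [5, 5]), (64, [6, 5]), (66, [8, 4]), (67, [8, 6, 4]), (70, [4, 4]), (72, [5]), (84, [4, 9, 4])]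

def OP2 : List (ℕ × List ℕ) := [(3, []), (4, [4, 7]), (5, [4, 15]), (16, [6, 8]), (17, [12, 6]), (18, [6]), (24, [12, 9]), (25, [15, 13]), (26, [4]), (27, [7]), (28, [9]), (29, [8]), (30, [12]), (31, [13]), (32, [15]), (33, [11, 8, 4]), (35, [8, 8]), (36, [6, 15]), (37, [8, 5, 6]), (38, [15, 6]), (39, [6, 4]), (40, [10, 6]), (42, [10, 4]), (43, [5, 11, 4]), (44, [5, 12, 7]), (45, [5, 8]), (46, [15, 4, 8]), (47, [8, 15]), (53, [4, 13]), (54, [15, 12]), (55, [9, 7]), (59, [8, 13, 4]), (60, [15, 9]), (65, [9, 6]), (68, [10, 10, 4]), (69, [6, 9]), (71, [9, 12, 6]), (73, [10, 7]), (74, [4, 12]), (75, [8, 12]), (76, [10, 8, 4]), (77, [10, 15]), (78, [5, 12]), (79, [11, 4]), (80, [9, 4]), (81, [10, 5, 6]), (82, [5, 6]), (83, [8, 6]), (85, [13, 12]), (86, [7, 4]), (87, [8, 8, 4]), (88, [8, 4]), (89, [12, 4]), (90, [13, 4]), (91, [12, 7]), (92, [4, 8]), (93, [9, 9]), (94, [13, 9]), (95, [11, 5,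 8]), (96, [9, 5, 6]), (97, [15, 11, 4]), (98, [12, 6, 4]), (99, [9, 9, 7])]

end Cfsg.Agent.Lib.Helper56.J2U
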